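import Groth.Agent.Ega1.TensorRestrict
import Groth.Agent.PerfC.FTExt
import Groth.Agent.S1455
import Groth.Agent.Flat2B.GExGlob

/-!
# Tensor products of finitely presented modules
-/

set_option autoImplicit false
universe u
open CategoryTheory CategoryTheory.Limits AlgebraicGeometry TopologicalSpace TensorProduct

namespace Groth.Agent.ResProp.K368.FPTens

theorem finitePresentation_tensor (R M N : Type*) [CommRing R] [AddCommGroup M] [AddCommGroup N]
    [Module R M] [Module R N] [Module.FinitePresentation R M] [Module.FinitePresentation R N] :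
    Module.FinitePresentation R (M ⊗[R] N) := by
  obtain ⟨n, m, g, f, hg, hfg⟩ := Module.FinitePresentation.exists_fin' R N
  have h1 : Module.FinitePresentation R (M ⊗[R] (Fin n → R)) :=
    Module.FinitePresentation.of_equiv (TensorProduct.piScalarRight R R M (Fin n)).symm
  refine Module.finitePresentation_of_surjective (LinearMap.lTensor M g) (LinearMap.lTensor_surjective M hg) ?_
  rw [LinearMap.exact_iff.mp (lTensor_exact M hfg hg), LinearMap.range_eq_map]
  exact (Module.Finite.fg_top : (⊤ : Submodule R (M ⊗[R] (Fin m → R))).FG).map _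

variable {X : Scheme.{u}}

theorem isFP_tensorMod {F G : X.Modules} (hF : CohB1.IsFP F) (hG : CohB1.IsFP G) :
    CohB1.IsFP (CohB1.tensorMod F G) := by
  have hFq := Groth.Agent.Models2.FPCoh.isQCoh_of_isFP hF
  have hGq := Groth.Agent.Models2.FPCoh.isQCoh_of_isFP hG
  refine Groth.Agent.Flat2B.GExGlob.isFP_of_sections _
    (Groth.Agent.Ega1.TensorRestrict.isQCoh_tensorMod F G hFq hGq) fun x => ?_
  obtain ⟨U₁, hxU₁, hU₁⟩ := (Groth.Agent.CohqA.FinLocal.isFP_iff F).mp hF x
  obtain ⟨U₂, hxU₂, hU₂⟩ := (Groth.Agent.CohqA.FinLocal.isFP_iff G).mp hG x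
  obtain ⟨V, hV, hxV, hVU⟩ := exists_isAffineOpen_mem_and_subset (x := x) (U := U₁ ⊓ U₂) ⟨hxU₁, hxU₂⟩
  have h1 := (Groth.Agent.CohqA.AffSec.gfp_iff hV hFq).mp
    (Groth.Agent.CohqA.FinSec.gfp_of_le (fun y hy => (hVU hy).1) hU₁)
  have h2 := (Groth.Agent.CohqA.AffSec.gfp_iff hV hGq).mp
    (Groth.Agent.CohqA.FinSec.gfp_of_le (fun y hy => (hVU hy).2) hU₂)
  have h3 := finitePresentation_tensor Γ(X, V) Γ(F, V) Γ(G, V)
  refine ⟨V, hV, hxV, ?_⟩
  let φ : Γ(F, V) ⊗[Γ(X, V)] Γ(G, V) →ₗ[Γ(X, V)] Γ(CohB1.tensorMod F G, V) :=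
    { toFun := Groth.Agent.Ega1.TensorRestrict.toT F G V
      map_add' := map_add _
      map_smul' := Groth.Agent.Ega1.TensorRestrict.toT_smul F G V }
  exact Module.FinitePresentation.of_equiv (LinearEquiv.ofBijective φ
    (Groth.Agent.Ega1.TensorRestrict.bijective_toT F G hFq hGq hV))

end Groth.Agent.ResProp.K368.FPTens
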