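import Groth.Agent.Perf.K368.ResolLim
import Groth.Agent.ResProp.K368.FPTens
import Groth.Agent.Smoothlim.FPMod
import Groth.Agent.Ega2.TensMon

/-!
# Tensor generators of finite presentation
-/

set_option autoImplicit false
universe u
open CategoryTheory CategoryTheory.Limits MonoidalCategory AlgebraicGeometry TopologicalSpace

namespace Groth.Agent.ResProp.K368.GenFP

open Groth.Agent.Fdesc.Skyscraper Groth.Agent.Perf.K368.TensKill Groth.Agent.PerfB.StalkKFlat
  Groth.Agent.Dcoh.Stalk Groth.Agent.Perf.K368.ResolFam Groth.Agent.Perf.K368.ResolIdeal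

variable {X : Scheme.{u}}

theorem isFT_kernel_fp {M G : X.Modules} (hM : Coh.IsQCoh M) (hMf : CohB1.IsFT M)
    (hGf : CohB1.IsFP G) (q : M ⟶ G) [Epi q] : CohB1.IsFT (kernel q) := by
  have hGq : Coh.IsQCoh G := Groth.Agent.Models2.FPCoh.isQCoh_of_isFP hGf
  have hK : Coh.IsQCoh (kernel q) := Groth.Agent.PerfA.QCohSerre.isQCoh_kernel q hM hGq
  refine Groth.Agent.CohqB.FiniteType2.isFT_of_finite_sections (kernel q) fun x => ?_
  obtain ⟨V, hV, hxV, -, hfp⟩ := Groth.Agent.S1455.exists_affine_fp G hGq hGf ⊤ x trivial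
  refine ⟨V, hxV, hV, ?_⟩
  have hfin : Module.Finite Γ(X, V) Γ(M, V) :=
    Groth.Agent.CohqB.FiniteType2.finite_sections_of_isFT M hMf hV
  let qV : Γ(M, V) →ₗ[Γ(X, V)] Γ(G, V) :=
    { toFun := q.app V
      map_add' := map_add _
      map_smul' := fun r s => Scheme.Modules.Hom.app_smul q r s }
  have hqV : Function.Surjective qV := Groth.Agent.PerfA.QCohEpi.app_surjective_of_epi q hV
  have h1 : (LinearMap.ker qV).FG := Module.FinitePresentation.fg_ker qV hqV
  let kV : Γ(kernel q, V) →ₗ[Γ(X, V)] Γ(M, V) :=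
    { toFun := (kernel.ι q).app V
      map_add' := map_add _
      map_smul' := fun r s => Scheme.Modules.Hom.app_smul (kernel.ι q) r s }
  have hinj : Function.Injective kV := Groth.Agent.Flat2B.GExSC4.kernel_sec_inj q V
  have hr : LinearMap.range kV = LinearMap.ker qV := by
    ext m
    constructor
    · rintro ⟨k, rfl⟩
      change q.app V ((kernel.ι q).app V k) = 0
      have h2 : ((kernel.ι q) ≫ q).app V k = 0 := by rw [kernel.condition]; rfl
      exact h2
    · intro hm
      obtain ⟨z, hz⟩ := Groth.Agent.FormalB.FormalLeft.exists_kernel_section q V m hm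
      exact ⟨z, hz⟩
  rw [← hr] at h1
  have : Module.Finite Γ(X, V) (LinearMap.range kV) := Module.Finite.iff_fg.mpr h1
  exact Module.Finite.equiv (LinearEquiv.ofInjective kV hinj).symm


theorem isFP_Tn {E : X.Modules} (hE : CohB1.IsFP E) (n : ℕ) {G : X.Modules}
    (hG : CohB1.IsFP G) : CohB1.IsFP ((Tn E n).obj G) := by
  induction n with
  | zero => exact hG
  | succ n ih => exact FPTens.isFP_tensorMod hE ih

variable {E : X.Modules} (φ : E ⟶ Coh.structureModule X)

theorem exists_lift_fp [CompactSpace X] [QuasiSeparatedSpace X] (hEf : CohB1.IsFP E)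
    {M N G : X.Modules} (hM : Coh.IsQCoh M) (hN : Coh.IsQCoh N) (hG : CohB1.IsFP G)
    (α : M ⟶ N) (hα : ∀ x : X, imx φ x = ⊤ → Function.Bijective (stalkMap α x)) (t : G ⟶ N) :
    ∃ (n₁ n₂ : ℕ) (ψ : (Tn E n₂).obj ((Tn E n₁).obj G) ⟶ M),
      ψ ≫ α = ((evn φ n₂).app ((Tn E n₁).obj G) ≫ (evn φ n₁).app G) ≫ t := by
  have hEq : Coh.IsQCoh E := Groth.Agent.Models2.FPCoh.isQCoh_of_isFP hEf
  have hEt : CohB1.IsFT E := Groth.Agent.Models2.FPCoh.isFT_of_isFP hEf
  have qc : ∀ {P : X.Modules}, CohB1.IsFP P → Coh.IsQCoh P := fun h =>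
    Groth.Agent.Models2.FPCoh.isQCoh_of_isFP h
  have ft : ∀ {P : X.Modules}, CohB1.IsFP P → CohB1.IsFT P := fun h =>
    Groth.Agent.Models2.FPCoh.isFT_of_isFP h
  -- step A
  let C := cokernel α
  have hC : Coh.IsQCoh C := Groth.Agent.PerfA.QCohSerre.isQCoh_cokernel α hM hN
  let t' : G ⟶ C := t ≫ cokernel.π α
  let I := Abelian.image t'
  have hI : Coh.IsQCoh I := Groth.Agent.CohqB.QC6.isQCoh_image t' (qc hG) hC
  have hIf : CohB1.IsFT I := Groth.Agent.CohqB.LocalQC.isFT_of_epi (Abelian.factorThruImage t') (ft hG)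
  have hC0 : ∀ x : X, imx φ x = ⊤ → Subsingleton (C.presheaf.stalk x) := by
    intro x hx
    refine ⟨fun a b => ?_⟩
    have key : ∀ c : C.presheaf.stalk x, c = 0 := by
      intro c
      have h1 : Epi ((stalkF x).map (cokernel.π α)) := inferInstance
      rw [ModuleCat.epi_iff_surjective] at h1
      obtain ⟨n, hn⟩ := h1 c
      obtain ⟨m, hm⟩ := (hα x hx).2 n
      rw [← hn, ← hm, ← stalkF_map_hom]
      have h2 : ((stalkF x).map (α ≫ cokernel.π α)).hom m = 0 := by
        rw [cokernel.condition, CategoryTheory.Functor.map_zero]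
        rfl
      rw [CategoryTheory.Functor.map_comp] at h2
      exact h2
    rw [key a, key b]
  obtain ⟨n₁, hn₁⟩ := exists_evn_eq_zero φ hEq hEt hI hIf fun x hx =>
    stalk_subsingleton_of_mono (Abelian.image.ι t') x (hC0 x hx)
  have hA : (evn φ n₁).app G ≫ t ≫ cokernel.π α = 0 := by
    have h1 : t ≫ cokernel.π α = Abelian.factorThruImage t' ≫ Abelian.image.ι t' := (Abelian.image.fac t').symm
    have h2 := (evn φ n₁).naturality (Abelian.factorThruImage t')
    rw [hn₁, comp_zero] at h2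
    have h3 : (evn φ n₁).app G ≫ Abelian.factorThruImage t' = 0 := h2.symm
    rw [h1, ← Category.assoc, h3, zero_comp]
  let G₁ := (Tn E n₁).obj G
  have hG₁ : CohB1.IsFP G₁ := isFP_Tn hEf n₁ hG
  -- step B
  let f : M ⟶ Abelian.image α := Abelian.factorThruImage α
  let g : G₁ ⟶ Abelian.image α := kernel.lift (cokernel.π α) ((evn φ n₁).app G ≫ t) (by
    rw [Category.assoc]
    exact hA)
  have hg : g ≫ Abelian.image.ι α = (evn φ n₁).app G ≫ t := kernel.lift_ι _ _ _
  have hN' : Coh.IsQCoh (Abelian.image α) := Groth.Agent.CohqB.QC6.isQCoh_image α hM hN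
  have hP : Coh.IsQCoh (pullback f g) := by
    have e : kernel (biprod.desc f (-g)) ≅ pullback f g :=
      (kernelIsKernel (biprod.desc f (-g))).conePointUniqueUpToIso
        (Abelian.PullbackToBiproductIsKernel.isLimitPullbackToBiproduct f g)
    exact Groth.Agent.PerfA.QCohSerre.isQCoh_of_iso e (Groth.Agent.PerfA.QCohSerre.isQCoh_kernel _
      (Groth.Agent.CohqB.QC6.isQCoh_biprod hM (qc hG₁)) hN')
  have : Epi (pullback.snd f g) := inferInstance
  obtain ⟨M₂, j, hM₂, hM₂f, hj, hjs⟩ := Groth.Agent.PerfC.FTExt.exists_isFT_mono_epi hP (qc hG₁) (ft hG₁)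
    (pullback.snd f g)
  let q : M₂ ⟶ G₁ := j ≫ pullback.snd f g
  have hq : Epi q := hjs
  let κ : kernel q ⟶ M := kernel.ι q ≫ j ≫ pullback.fst f g
  have hκα : κ ≫ α = 0 := by
    have h1 : kernel.ι q ≫ j ≫ pullback.snd f g = 0 := kernel.condition q
    have h2 : κ ≫ f = 0 := by
      have h3 : κ ≫ f = (kernel.ι q ≫ j ≫ pullback.snd f g) ≫ g := by
        simp only [κ, Category.assoc, pullback.condition]
      rw [h3, h1, zero_comp]
    rw [← Abelian.image.fac α, ← Category.assoc]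
    change (κ ≫ f) ≫ _ = 0
    rw [h2, zero_comp]
  have hκ : Mono κ := by
    refine Preadditive.mono_of_cancel_zero _ fun {Z} z hz => ?_
    have h1 : z ≫ kernel.ι q ≫ j = 0 := by
      apply pullback.hom_ext
      · rw [zero_comp]
        simpa only [κ, Category.assoc] using hz
      · rw [zero_comp, Category.assoc, Category.assoc]
        change z ≫ kernel.ι q ≫ q = 0
        rw [kernel.condition, comp_zero]
    have h2 : z ≫ (kernel.ι q ≫ j) = 0 ≫ (kernel.ι q ≫ j) := by rw [h1, zero_comp]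
    have : Mono (kernel.ι q ≫ j) := mono_comp _ _
    exact (cancel_mono _).mp h2
  have hKs : ∀ x : X, imx φ x = ⊤ → Subsingleton ((kernel q).presheaf.stalk x) := by
    intro x hx
    refine ⟨fun a b => ?_⟩
    have key : ∀ c : (kernel q).presheaf.stalk x, c = 0 := by
      intro c
      have h1 : Mono ((stalkF x).map κ) := inferInstance
      rw [ModuleCat.mono_iff_injective] at h1
      have h2 : stalkMap κ x c = 0 := by
        apply (hα x hx).1
        rw [← stalkMap_comp_apply, hκα, map_zero, ← stalkF_map_hom, CategoryTheory.Functor.map_zero]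
        rfl
      rw [← stalkF_map_hom] at h2
      exact h1 (h2.trans (map_zero ((stalkF x).map κ).hom).symm)
    rw [key a, key b]
  obtain ⟨n₂, hn₂⟩ := exists_evn_eq_zero φ hEq hEt
    (Groth.Agent.PerfA.QCohSerre.isQCoh_kernel q hM₂ (qc hG₁)) (isFT_kernel_fp hM₂ hM₂f hG₁ q) hKs
  have hw : (Tn E n₂).map (kernel.ι q) ≫ (evn φ n₂).app M₂ = 0 := by
    have h1 := (evn φ n₂).naturality (kernel.ι q)
    rw [hn₂, zero_comp] at h1
    exact h1
  let S : ShortComplex X.Modules := ShortComplex.mk (kernel.ι q) q (kernel.condition q)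
  have hS : S.Exact := ShortComplex.exact_of_f_is_kernel S (kernelIsKernel q)
  have hSq : Epi S.g := hq
  have hST : (S.map (Tn E n₂)).Exact := hS.map_of_epi_of_preservesCokernel (Tn E n₂) hSq inferInstance
  have hSTq : Epi (S.map (Tn E n₂)).g := inferInstanceAs (Epi ((Tn E n₂).map q))
  let ψ : (Tn E n₂).obj G₁ ⟶ M₂ := hST.desc ((evn φ n₂).app M₂) hw
  have hψ : (Tn E n₂).map q ≫ ψ = (evn φ n₂).app M₂ := hST.g_desc _ _
  have hψq : ψ ≫ q = (evn φ n₂).app G₁ := by
    rw [← cancel_epi ((Tn E n₂).map q), ← Category.assoc, hψ]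
    exact ((evn φ n₂).naturality q).symm
  refine ⟨n₁, n₂, ψ ≫ j ≫ pullback.fst f g, ?_⟩
  have h1 : (j ≫ pullback.fst f g) ≫ α = q ≫ g ≫ Abelian.image.ι α := by
    have h2 : f ≫ Abelian.image.ι α = α := Abelian.image.fac α
    refine (congrArg (fun z => (j ≫ pullback.fst f g) ≫ z) h2.symm).trans ?_
    simp only [q, Category.assoc, pullback.condition_assoc]
  rw [Category.assoc, h1, ← Category.assoc, hψq, hg, Category.assoc]


theorem Tn_Tn (E : X.Modules) (n₁ n₂ : ℕ) (G : X.Modules) :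
    (Tn E n₂).obj ((Tn E n₁).obj G) = (Tn E (n₁ + n₂)).obj G := by
  induction n₂ with
  | zero => rfl
  | succ n ih => exact congrArg (DCoh.tensorBi.obj E).obj ih

section Section

open Groth.Agent.PerfC.CyclicGlue

theorem exists_hom_section_fp [CompactSpace X] [QuasiSeparatedSpace X] (hE : CohB1.IsFP E)
    (U : X.Opens) (hUc : IsCompact (U : Set X)) (hφ : ∀ x : X, x ∈ U ↔ Function.Surjective (stalkMap φ x))
    {M : X.Modules} (hM : Coh.IsQCoh M) (s : Γ(M, U)) :
    ∃ (n : ℕ) (ψ : (Tn E n).obj (Coh.structureModule X) ⟶ M),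
      ∀ (x : X) (hx : x ∈ U), M.presheaf.germ U x hx s ∈ LinearMap.range (stalkMap ψ x) := by
  have : CompactSpace U := isCompact_iff_compactSpace.1 hUc
  have hqc : QuasiCompact U.ι := inferInstance
  let N := (Scheme.Modules.pushforward U.ι).obj (M.restrict U.ι)
  let α : M ⟶ N := (Scheme.Modules.restrictAdjunction U.ι).unit.app M
  have hN : Coh.IsQCoh N := Groth.Agent.Ega1.QcqsPush.isQCoh_pushforward U.ι (M.restrict U.ι)
    (Groth.Agent.Fdesc.QCohStalk.restrict_isQCoh M hM U.ι)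
  obtain ⟨n, hn⟩ : ∃ n : Γ(N, ⊤), res N le_top n = α.app U s := by
    have hle : U.ι ''ᵁ U.ι ⁻¹ᵁ (⊤ : X.Opens) ≤ U := by
      rw [Scheme.Hom.image_preimage_eq_opensRange_inf, Scheme.Opens.opensRange_ι]
      exact inf_le_left
    refine ⟨res M hle s, ?_⟩
    have h1 : α.app U s = res M (U.ι.image_preimage_le U) s :=
      congrArg (fun f => f s) (Scheme.Modules.restrictAdjunction_unit_app_app U.ι M U)
    rw [h1]
    exact res_res M hle (U.ι.image_mono (U.ι.preimage_mono le_top)) s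
  have hOf : CohB1.IsFP (Coh.structureModule X) :=
    Groth.Agent.Desc.FinLocFreeSections.isFP_of_isFinLocFree Groth.Agent.Dcoh.ResFree.isFinLocFree_unit
  obtain ⟨n₁, n₂, ψ, hψ⟩ := exists_lift_fp φ hE hM hN hOf α
    (fun x hx => bijective_unit U M x ((hφ x).2 (surjective_of_imx_eq_top φ x hx)))
    (ofSec N n)
  suffices h : ∃ (G : X.Modules) (ψ : G ⟶ M), G = (Tn E (n₁ + n₂)).obj (Coh.structureModule X) ∧
      ∀ (x : X) (hx : x ∈ U), M.presheaf.germ U x hx s ∈ LinearMap.range (stalkMap ψ x) by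
    obtain ⟨G, ψ, rfl, h⟩ := h
    exact ⟨_, ψ, h⟩
  refine ⟨_, ψ, Tn_Tn E n₁ n₂ _, fun x hx => ?_⟩
  set ε := (evn φ n₂).app ((Tn E n₁).obj (Coh.structureModule X)) ≫ (evn φ n₁).app (Coh.structureModule X)
    with hε'
  have hε : Function.Surjective (stalkMap ε x) := by
    intro a
    obtain ⟨b, hb⟩ := surj_evn φ n₁ (Coh.structureModule X) x ((hφ x).1 hx) a
    obtain ⟨c, hc⟩ := surj_evn φ n₂ ((Tn E n₁).obj (Coh.structureModule X)) x ((hφ x).1 hx) b
    refine ⟨c, ?_⟩
    rw [hε', stalkMap_comp_apply]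
    exact (congrArg (stalkMap ((evn φ n₁).app (Coh.structureModule X)) x) hc).trans hb
  obtain ⟨g, hg⟩ := hε ((Coh.structureModule X).presheaf.germ U x hx (1 : Γ(X, U)))
  refine ⟨g, (bijective_unit U M x hx).1 ?_⟩
  have h0 : stalkMap α x (M.presheaf.germ U x hx s) = N.presheaf.germ U x hx (α.app U s) :=
    stalkMap_germ α x U hx s
  have h1 : stalkMap α x (stalkMap ψ x g) = stalkMap (ofSec N n) x (stalkMap ε x g) := by
    rw [← stalkMap_comp_apply, hψ, stalkMap_comp_apply]
  have h2 : stalkMap (ofSec N n) x ((Coh.structureModule X).presheaf.germ U x hx (1 : Γ(X, U))) =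
      N.presheaf.germ U x hx ((ofSec N n).app U (1 : Γ(X, U))) := stalkMap_germ (ofSec N n) x U hx _
  have h3 : (ofSec N n).app U (1 : Γ(X, U)) = α.app U s := by
    rw [← hn]
    exact (ofSec_app N n U (1 : Γ(X, U))).trans (one_smul _ _)
  refine h1.trans ?_
  rw [hg, h2, h3]
  exact h0.symm

end Section

end Groth.Agent.ResProp.K368.GenFP
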