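import Groth.Agent.ResProp.K368.GenPow
import Groth.Agent.PerfC.ResolAffine

/-!
# Every module of finite type is a quotient of sums of tensor powers of one module of finite presentation
-/

set_option autoImplicit false
universe u
open CategoryTheory CategoryTheory.Limits MonoidalCategory AlgebraicGeometry TopologicalSpace

namespace Groth.Agent.ResProp.K368.GenMain

open Groth.Agent.Perf.K368.TensKill Groth.Agent.Fdesc.Skyscraper Groth.Agent.ResProp.K368.GenFP
  Groth.Agent.ResProp.K368.GenPow Groth.Agent.Perf.K368.ResolIdeal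

variable {X : Scheme.{u}}

/-- Finitely many morphisms from iterated tensor products generate over `U`. -/
theorem exists_family [CompactSpace X] [QuasiSeparatedSpace X] {E : X.Modules} (hE : CohB1.IsFP E)
    (φ : E ⟶ Coh.structureModule X)
    (U : X.Opens) (hUa : IsAffineOpen U) (hφ : ∀ x : X, x ∈ U ↔ Function.Surjective (stalkMap φ x))
    {M : X.Modules} (hM : Coh.IsQCoh M) (hft : CohB1.IsFT M) :
    ∃ (ι : Type u) (_ : Fintype ι) (n : ι → ℕ) (ψ : ∀ i, (Tn E (n i)).obj (Coh.structureModule X) ⟶ M),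
      ∀ x ∈ U, (⨆ i, LinearMap.range (stalkMap (ψ i) x)) = ⊤ := by
  classical
  have : Coh.IsQCoh M := hM
  have hfin : Module.Finite Γ(X, U) Γ(M, U) :=
    Groth.Agent.CohqB.FiniteType2.finite_sections_of_isFT M hft hUa
  obtain ⟨s, hs⟩ := Module.finite_def.mp hfin
  choose n ψ hψ using fun t : Γ(M, U) => exists_hom_section_fp φ hE U hUa.isCompact hφ hM t
  refine ⟨s, inferInstance, fun t => n t, fun t => ψ t, fun x hx => ?_⟩
  set R := (⨆ i : s, LinearMap.range (stalkMap (ψ i) x)) with hR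
  have h1 : ∀ t ∈ s, M.presheaf.germ U x hx t ∈ R := fun t ht =>
    (le_iSup (fun i : s => LinearMap.range (stalkMap (ψ i) x)) ⟨t, ht⟩) (hψ t x hx)
  have h2 : ∀ t : Γ(M, U), M.presheaf.germ U x hx t ∈ R := by
    intro t
    have ht : t ∈ Submodule.span Γ(X, U) (s : Set Γ(M, U)) := by rw [hs]; trivial
    induction ht using Submodule.span_induction with
    | mem t ht => exact h1 t ht
    | zero => rw [map_zero]; exact zero_mem _
    | add a b _ _ ha hb => rw [map_add]; exact add_mem ha hb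
    | smul r a _ ha =>
      rw [Groth.Agent.Fdesc.QCohStalk.germ_smul']
      exact Submodule.smul_mem _ _ ha
  rw [eq_top_iff]
  intro m _
  obtain ⟨g, t, hxg, ht⟩ := Groth.Agent.Fdesc.QCohStalk.exists_germ_eq_smul M hUa hM x hx m
  have hu : IsUnit (X.presheaf.germ U x hx g) := (X.mem_basicOpen g x hx).mp hxg
  obtain ⟨v, hv⟩ := hu.exists_left_inv
  have h3 := Submodule.smul_mem _ v (h2 t)
  rw [ht, smul_smul, hv, one_smul] at h3
  exact h3

/-- an epimorphism onto the ideal of the complement of a quasi-compact open, from a module of finite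
presentation -/
theorem exists_phi [CompactSpace X] [QuasiSeparatedSpace X] (U : X.Opens) (hU : IsCompact (U : Set X)) :
    ∃ (E : X.Modules) (φ : E ⟶ Coh.structureModule X), CohB1.IsFP E ∧
      ∀ x : X, x ∈ U ↔ Function.Surjective (stalkMap φ x) := by
  obtain ⟨J, hJ, -, -, hJs⟩ := Groth.Agent.PerfA.FGIdeal.exists_fg_of_isCompact U hU
  have hJf : CohB1.IsFT (ClSub.idealMod J) := (Groth.Agent.PerfA.IdealModule.isFT_idealMod_iff J).2 hJ
  obtain ⟨E, π, hE, hπ⟩ := Groth.Agent.PerfC.FTExt.exists_isFP_epi (Z := ClSub.idealMod J)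
    (H := ClSub.idealMod J) inferInstance inferInstance hJf (𝟙 _)
  rw [Category.comp_id] at hπ
  refine ⟨E, π ≫ ClSub.idealModι J, hE, fun x => ?_⟩
  rw [surj_comp_of_epi, surj_idealModι_iff]
  have h1 : x ∈ J.support ↔ x ∈ ((U : Set X)ᶜ) := by
    rw [← hJs]
    rfl
  rw [h1]
  exact not_not.symm

theorem epi_sigma {m : ℕ} {F M : X.Modules} {ι : Type u} [Fintype ι] (hm : Fintype.card ι ≤ m)
    (ψ : ι → (F ⟶ M)) (h : ∀ x : X, (⨆ i, LinearMap.range (stalkMap (ψ i) x)) = ⊤) :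
    ∃ π : (∐ fun _ : Fin m => F) ⟶ M, Epi π := by
  classical
  let e := (Fintype.equivFin ι)
  let π : (∐ fun _ : Fin m => F) ⟶ M := Sigma.desc fun i =>
    if h : i.1 < Fintype.card ι then ψ (e.symm ⟨i.1, h⟩) else 0
  refine ⟨π, ?_⟩
  rw [Groth.Agent.Ega1.FTStalkFin.epi_iff_stalkMap_surjective]
  intro x
  have h1 : ∀ i, LinearMap.range (stalkMap (ψ i) x) ≤ LinearMap.range (stalkMap π x) := by
    intro i
    rintro _ ⟨a, rfl⟩
    let k : Fin m := ⟨(e i).1, (e i).2.trans_le hm⟩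
    refine ⟨stalkMap (Sigma.ι (fun _ : Fin m => F) k) x a, ?_⟩
    rw [← stalkMap_comp_apply, Sigma.ι_desc, dif_pos (e i).2]
    have h2 : (⟨k.1, (e i).2⟩ : Fin (Fintype.card ι)) = e i := rfl
    rw [h2, e.symm_apply_apply]
  have h2 : LinearMap.range (stalkMap π x) = ⊤ := by
    rw [eq_top_iff, ← h x]
    exact iSup_le h1
  exact LinearMap.range_eq_top.mp h2

theorem main (X : Scheme.{u}) [CompactSpace X] [QuasiSeparatedSpace X] :
    ∃ F : X.Modules, Coh.IsQCoh F ∧ CohB1.IsFP F ∧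
      ∀ M : X.Modules, Coh.IsQCoh M → CohB1.IsFT M →
        ∃ n₀ m₀ : ℕ, ∀ n m : ℕ, n₀ ≤ n → m₀ ≤ m →
          ∃ π : (∐ fun _ : Fin m => CohB1.tensorPow F n) ⟶ M, Epi π := by
  classical
  obtain ⟨T, hT⟩ := Groth.Agent.PerfC.ResolAffine.exists_finite_affine_cover X
  choose E φ hE hφ using fun V : X.affineOpens => exists_phi V.1 V.2.isCompact
  obtain ⟨F, hF, ⟨q, hq⟩, hp⟩ := exists_common_fp T E hE
  choose p hp using hp
  refine ⟨F, Groth.Agent.Models2.FPCoh.isQCoh_of_isFP hF, hF, fun M hM hft => ?_⟩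
  choose ι hι n ψ hψ using fun V : X.affineOpens => exists_family (hE V) (φ V) V.1 V.2 (hφ V) hM hft
  let K := Σ V : T, ι V.1
  let N : K → ℕ := fun k => n k.1.1 k.2
  refine ⟨Finset.univ.sup N, Fintype.card K, fun n' m hn hm => ?_⟩
  have hk : ∀ k : K, N k ≤ n' := fun k => (Finset.le_sup (Finset.mem_univ k)).trans hn
  have hepi : ∀ k : K, ∃ π : CohB1.tensorPow F n' ⟶ (Tn (E k.1.1) (N k)).obj (Coh.structureModule X), Epi π := by
    intro k
    have := hp k.1.1 k.1.2
    exact exists_epi_tensorPow (p k.1.1 k.1.2) q n' (N k) (hk k)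
  choose π hπ using hepi
  refine epi_sigma hm (fun k : K => π k ≫ ψ k.1.1 k.2) fun x => ?_
  obtain ⟨V, hV, hxV⟩ := hT x
  rw [eq_top_iff, ← hψ V x hxV]
  refine iSup_le fun i => ?_
  refine le_trans ?_ (le_iSup (fun k : K => LinearMap.range (stalkMap (π k ≫ ψ k.1.1 k.2) x)) ⟨⟨V, hV⟩, i⟩)
  rintro _ ⟨a, rfl⟩
  obtain ⟨b, hb⟩ := (Groth.Agent.Ega1.FTStalkFin.epi_iff_stalkMap_surjective (π ⟨⟨V, hV⟩, i⟩)).1 (hπ ⟨⟨V, hV⟩, i⟩) x a
  refine ⟨b, ?_⟩
  rw [stalkMap_comp_apply, hb]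

end Groth.Agent.ResProp.K368.GenMain
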