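import Groth.Agent.ResProp.K368.GenFP

/-!
# Tensor powers of a module dominate iterated tensor products
-/

set_option autoImplicit false
universe u
open CategoryTheory CategoryTheory.Limits MonoidalCategory AlgebraicGeometry TopologicalSpace

namespace Groth.Agent.ResProp.K368.GenPow

open Groth.Agent.Perf.K368.TensKill

variable {X : Scheme.{u}}

section Pow

theorem epi_left (F : X.Modules) {A B : X.Modules} (π : A ⟶ B) [Epi π] :
    Epi ((DCoh.tensorBi.map π).app F) := by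
  have : PreservesFiniteColimits (DCoh.tensorBi.flip.obj F) :=
    Groth.Agent.Dcoh.Stalk.preservesFiniteColimits_tensorBi_flip_obj F
  exact Functor.map_epi (DCoh.tensorBi.flip.obj F) π

theorem epi_right (A : X.Modules) {F B : X.Modules} (p : F ⟶ B) [Epi p] :
    Epi ((DCoh.tensorBi.obj A).map p) := by
  have : PreservesFiniteColimits (DCoh.tensorBi.obj A) :=
    Groth.Agent.Dcoh.Stalk.preservesFiniteColimits_tensorBi_obj A
  exact Functor.map_epi (DCoh.tensorBi.obj A) p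

theorem exists_epi_tensor {A A' B B' : X.Modules} (f : A ⟶ A') [Epi f] (g : B ⟶ B') [Epi g] :
    ∃ h : CohB1.tensorMod A B ⟶ CohB1.tensorMod A' B', Epi h :=
  ⟨(DCoh.tensorBi.map f).app B ≫ (DCoh.tensorBi.obj A').map g,
    @epi_comp _ _ _ _ _ _ (epi_left B f) _ (epi_right A' g)⟩

theorem exists_epi_tensorPow {F E : X.Modules} (p : F ⟶ E) [Epi p] (q : F ⟶ Coh.structureModule X) [Epi q]
    (n : ℕ) : ∀ k : ℕ, k ≤ n →
    ∃ π : CohB1.tensorPow F n ⟶ (Tn E k).obj (Coh.structureModule X), Epi π := by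
  induction n with
  | zero =>
    intro k hk
    obtain rfl : k = 0 := by omega
    exact ⟨𝟙 (Coh.structureModule X), inferInstanceAs (Epi (𝟙 (Coh.structureModule X)))⟩
  | succ n ih =>
    intro k hk
    rcases Nat.lt_or_ge n k with h | h
    · obtain rfl : k = n + 1 := by omega
      obtain ⟨π, hπ⟩ := ih n le_rfl
      obtain ⟨h, hh⟩ := exists_epi_tensor π p
      exact ⟨h ≫ (Groth.Agent.Ega2.Tens.swap _ E).hom, epi_comp h _⟩
    · obtain ⟨π, hπ⟩ := ih k h
      obtain ⟨h, hh⟩ := exists_epi_tensor π q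
      exact ⟨h ≫ (Groth.Agent.Ega2.Tens.runit _).hom, epi_comp h _⟩

theorem exists_common_fp {ι : Type*} (s : Finset ι) (E : ι → X.Modules) (hE : ∀ i, CohB1.IsFP (E i)) :
    ∃ F : X.Modules, CohB1.IsFP F ∧ (∃ q : F ⟶ Coh.structureModule X, Epi q) ∧
      ∀ i ∈ s, ∃ p : F ⟶ E i, Epi p := by
  classical
  induction s using Finset.induction_on with
  | empty =>
    exact ⟨Coh.structureModule X,
      Groth.Agent.Desc.FinLocFreeSections.isFP_of_isFinLocFree Groth.Agent.Dcoh.ResFree.isFinLocFree_unit,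
      ⟨𝟙 _, inferInstance⟩, fun i hi => by simp at hi⟩
  | insert a s ha ih =>
    obtain ⟨F, hF, ⟨q, hq⟩, h⟩ := ih
    have e1 : Epi (coprod.desc (𝟙 (E a)) (0 : F ⟶ E a)) :=
      (SplitEpi.mk coprod.inl (coprod.inl_desc _ _)).epi
    have e2 : Epi (coprod.desc (0 : E a ⟶ F) (𝟙 F)) :=
      (SplitEpi.mk coprod.inr (coprod.inr_desc _ _)).epi
    refine ⟨E a ⨿ F, Groth.Agent.Smoothlim.FPMod.isFP_coprod (hE a) hF, ⟨coprod.desc 0 (𝟙 F) ≫ q, epi_comp _ _⟩, ?_⟩
    intro i hi
    rcases Finset.mem_insert.mp hi with rfl | hi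
    · exact ⟨_, e1⟩
    · obtain ⟨p, hp⟩ := h i hi
      exact ⟨coprod.desc 0 (𝟙 F) ≫ p, epi_comp _ _⟩

end Pow

end Groth.Agent.ResProp.K368.GenPow
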